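import Mathlib.RingTheory.Ideal.Pure
import Mathlib.RingTheory.Spectrum.Prime.Topology
import Mathlib.RingTheory.Spectrum.Prime.FreeLocus
import Mathlib.RingTheory.Flat.LocallyFree
import Mathlib.RingTheory.LocalProperties.FinitePresentation
import Mathlib.RingTheory.Flat.EquationalCriterion
import Mathlib.RingTheory.Finiteness.Projective
import Mathlib.Algebra.Module.LocalizedModule.Exact
import Mathlib.RingTheory.Support

/-!
Pure ideals and closed subsets stable under generalisation.
-/

set_option autoImplicit false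
set_option linter.style.haveILetI false

universe u

open PrimeSpectrum Topology

namespace Groth.Agent.PureIdeal

variable {R : Type u} [CommRing R]

theorem stableUnderGeneralization_zeroLocus (I : Ideal R) (hI : I.Pure) :
    StableUnderGeneralization (zeroLocus (I : Set R)) := by
  intro p q hqp hp x hx
  haveI := hI
  have hle : q.asIdeal ≤ p.asIdeal := (PrimeSpectrum.le_iff_specializes q p).mpr hqp
  obtain ⟨y, hy, hxy⟩ := Ideal.exists_eq_mul_of_pure hx
  have h0 : x * (1 - y) = 0 := by rw [mul_sub, mul_one, ← hxy, sub_self]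
  refine (q.isPrime.mem_or_mem (h0 ▸ q.asIdeal.zero_mem)).resolve_right fun h => ?_
  exact p.isPrime.one_notMem (by simpa using p.asIdeal.add_mem (hle h) (hp hy))

theorem exists_pure_zeroLocus_eq (Z : Set (PrimeSpectrum R)) (hc : IsClosed Z)
    (hg : StableUnderGeneralization Z) : ∃ I : Ideal R, I.Pure ∧ zeroLocus (I : Set R) = Z := by
  classical
  let I : Ideal R :=
    { carrier := {x | ∀ p ∈ Z, ∃ s, s ∉ p.asIdeal ∧ s * x = 0}
      add_mem' := fun {a b} ha hb p hp => by
        obtain ⟨s, hs, hsa⟩ := ha p hp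
        obtain ⟨t, ht, htb⟩ := hb p hp
        refine ⟨s * t, fun h => (p.isPrime.mem_or_mem h).elim hs ht, ?_⟩
        rw [mul_add, mul_assoc s t b, htb, mul_zero, add_zero, mul_comm s t, mul_assoc, hsa, mul_zero]
      zero_mem' := fun p _ => ⟨1, p.isPrime.one_notMem, mul_zero _⟩
      smul_mem' := fun c x hx p hp => by
        obtain ⟨s, hs, hsx⟩ := hx p hp
        exact ⟨s, hs, by rw [smul_eq_mul, mul_left_comm, hsx, mul_zero]⟩ }
  have hZI : Z ⊆ zeroLocus (I : Set R) := fun p hp x hx => by
    obtain ⟨s, hs, hsx⟩ := hx p hp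
    exact (p.isPrime.mem_or_mem (hsx ▸ p.asIdeal.zero_mem)).resolve_left hs
  have hIZ : zeroLocus (I : Set R) ⊆ Z := by
    intro q hq
    by_contra hqZ
    have hsep : ∀ p ∈ Z, ∃ s t, s ∉ p.asIdeal ∧ t ∉ q.asIdeal ∧ s * t = 0 := by
      intro p hp
      by_contra hc'
      push Not at hc'
      let S : Submonoid R := p.asIdeal.primeCompl ⊔ q.asIdeal.primeCompl
      have h0 : (0 : R) ∉ S := fun h => by
        obtain ⟨s, hs, t, ht, hst⟩ := Submonoid.mem_sup.mp h
        exact hc' s t hs ht hst
      obtain ⟨r, hr, -, hdis⟩ := Ideal.exists_le_prime_disjoint (⊥ : Ideal R) S (by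
        rw [Set.disjoint_left]
        intro z hz hzS
        exact h0 (((Submodule.mem_bot R).mp hz) ▸ hzS))
      have hrp : r ≤ p.asIdeal := fun z hz => by_contra fun hzp =>
        Set.disjoint_left.mp hdis hz (Submonoid.mem_sup_left (S := p.asIdeal.primeCompl) hzp)
      have hrq : r ≤ q.asIdeal := fun z hz => by_contra fun hzq =>
        Set.disjoint_left.mp hdis hz (Submonoid.mem_sup_right (T := q.asIdeal.primeCompl) hzq)
      have hrZ : (⟨r, hr⟩ : PrimeSpectrum R) ∈ Z :=
        hg ((PrimeSpectrum.le_iff_specializes _ _).mp hrp) hp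
      exact hqZ (((PrimeSpectrum.le_iff_specializes (⟨r, hr⟩ : PrimeSpectrum R) q).mp hrq).mem_closed hc hrZ)
    choose! s t hs ht hst using hsep
    have hcov : Z ⊆ ⋃ p : Z, (basicOpen (s p.1) : Set (PrimeSpectrum R)) := fun p hp =>
      Set.mem_iUnion.mpr ⟨⟨p, hp⟩, hs p hp⟩
    obtain ⟨F, hF⟩ := hc.isCompact.elim_finite_subcover
      (fun p : Z => (basicOpen (s p.1) : Set (PrimeSpectrum R))) (fun p => (basicOpen (s p.1)).2) hcov
    have hmem : (∏ p ∈ F, t p.1) ∈ I := fun p hp => by
      obtain ⟨p', hp'F, hpp'⟩ := Set.mem_iUnion₂.mp (hF hp)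
      refine ⟨s p'.1, hpp', ?_⟩
      rw [← Finset.mul_prod_erase F _ hp'F, ← mul_assoc, hst p'.1 p'.2, zero_mul]
    obtain ⟨p', -, hp'⟩ := q.isPrime.prod_mem_iff.mp (hq hmem)
    exact ht p'.1 p'.2 hp'
  refine ⟨I, Ideal.Pure.of_inf_eq_mul I fun J _ => le_antisymm ?_ Ideal.mul_le_inf, le_antisymm hIZ hZI⟩
  rintro x ⟨hxI, hxJ⟩
  have htop : Submodule.colon (⊥ : Submodule R R) {x} ⊔ I = ⊤ := by
    by_contra hne
    obtain ⟨m, hm, hle⟩ := Ideal.exists_le_maximal _ hne
    have hmZ : (⟨m, hm.isPrime⟩ : PrimeSpectrum R) ∈ Z := hIZ (le_sup_right.trans hle : I ≤ m)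
    obtain ⟨s, hs, hsx⟩ := hxI _ hmZ
    exact hs (hle (Submodule.mem_sup_left (Submodule.mem_colon_singleton.mpr
      ((Submodule.mem_bot R).mpr hsx))))
  obtain ⟨a, ha, y, hy, hay⟩ := Submodule.mem_sup.mp (htop ▸ Submodule.mem_top : (1 : R) ∈ _)
  have hax : a * x = 0 := (Submodule.mem_bot R).mp (Submodule.mem_colon_singleton.mp ha)
  have : x = y * x := by
    calc x = (a + y) * x := by rw [hay, one_mul]
      _ = y * x := by rw [add_mul, hax, zero_add]
  rw [this]
  exact Ideal.mul_mem_mul hy hxJ

theorem pure_fg_tfae (I : Ideal R) :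
    List.TFAE [I.Pure ∧ I.FG, ∃ e : R, IsIdempotentElem e ∧ I = Ideal.span {e},
      I.Pure ∧ IsOpen (zeroLocus (I : Set R)), Module.Projective R (R ⧸ I)] := by
  tfae_have 1 → 2 := fun ⟨hP, hF⟩ =>
    (Ideal.isIdempotentElem_iff_of_fg I hF).mp (haveI := hP; Ideal.isIdempotentElem_of_pure I)
  tfae_have 2 → 4 := by
    rintro ⟨e, he, rfl⟩
    let r : R ⧸ Ideal.span {e} →ₗ[R] R := Submodule.liftQ (Ideal.span {e})
      (LinearMap.mulRight R (1 - e)) (by
      rw [Ideal.span, Submodule.span_le, Set.singleton_subset_iff]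
      show e * (1 - e) = 0
      rw [mul_sub, mul_one, he.eq, sub_self])
    refine Module.Projective.of_split r (Ideal.span {e}).mkQ (LinearMap.ext fun z => ?_)
    obtain ⟨z, rfl⟩ := Submodule.mkQ_surjective _ z
    refine (Submodule.Quotient.eq _).mpr ?_
    rw [Ideal.mem_span_singleton']
    exact ⟨-z, show -z * e = z * (1 - e) - z by ring⟩
  tfae_have 4 → 1 := by
    intro h
    refine ⟨Module.Flat.of_projective, ?_⟩
    obtain ⟨s, hs⟩ := Module.projective_lifting_property I.mkQ LinearMap.id I.mkQ_surjective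
    refine ⟨{1 - s (Ideal.Quotient.mk I 1)}, ?_⟩
    rw [Finset.coe_singleton]
    apply le_antisymm
    · rw [Submodule.span_le, Set.singleton_subset_iff]
      refine (Submodule.Quotient.mk_eq_zero I).mp ?_
      rw [Submodule.Quotient.mk_sub, sub_eq_zero]
      exact (LinearMap.congr_fun hs _).symm
    · intro x hx
      refine Submodule.mem_span_singleton.mpr ⟨x, ?_⟩
      have h1 : x • s (Ideal.Quotient.mk I 1) = 0 := by
        rw [← map_smul, show x • Ideal.Quotient.mk I 1 = 0 from ?_, map_zero]
        rw [Algebra.smul_def, Ideal.Quotient.algebraMap_eq, Ideal.Quotient.eq_zero_iff_mem.mpr hx, zero_mul]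
      rw [smul_sub, h1, sub_zero, smul_eq_mul, mul_one]
  tfae_have 2 → 3 := by
    rintro ⟨e, he, rfl⟩
    refine ⟨Ideal.Pure.of_isIdempotentElem (Submodule.fg_span_singleton e)
      ((Ideal.isIdempotentElem_iff_of_fg _ (Submodule.fg_span_singleton e)).mpr ⟨e, he, rfl⟩), ?_⟩
    rw [zeroLocus_span]
    exact (isClopen_iff_zeroLocus.mpr ⟨e, he, rfl⟩).2
  tfae_have 3 → 2 := by
    rintro ⟨hP, hO⟩
    obtain ⟨e, he, hZ⟩ := isClopen_iff_zeroLocus.mp ⟨isClosed_zeroLocus (I : Set R), hO⟩
    haveI := hP
    haveI : (Ideal.span {e}).Pure := Ideal.Pure.of_isIdempotentElem (Submodule.fg_span_singleton e)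
      ((Ideal.isIdempotentElem_iff_of_fg _ (Submodule.fg_span_singleton e)).mpr ⟨e, he, rfl⟩)
    exact ⟨e, he, (Ideal.zeroLocus_inj_of_pure).mp (by rw [hZ, zeroLocus_span])⟩
  tfae_finish

attribute [local instance] Module.free_of_flat_of_isLocalRing

theorem isOpen_rankAtStalk_le (M : Type u) [AddCommGroup M] [Module R M] [Module.Finite R M]
    [Module.Flat R M] (n : ℕ) : IsOpen {p : PrimeSpectrum R | Module.rankAtStalk M p ≤ n} := by
  rw [isOpen_iff_forall_mem_open]
  intro p hp
  haveI : Nontrivial R := p.nontrivial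
  let Rp := Localization.AtPrime p.asIdeal
  let k := Module.rankAtStalk M p
  let f : (Fin k →₀ R) →ₗ[R] Fin k →₀ Rp := Finsupp.mapRange.linearMap (Algebra.linearMap R Rp)
  let g : M →ₗ[R] LocalizedModule.AtPrime p.asIdeal M :=
    LocalizedModule.mkLinearMap p.asIdeal.primeCompl M
  obtain ⟨φ, -, -, hφ⟩ := Module.exists_localizedMap_surjective_of_surjective p.asIdeal.primeCompl f g
    ((Module.finBasis Rp (LocalizedModule.AtPrime p.asIdeal M)).repr.restrictScalars R).symm.surjective
  have hφ' : Function.Surjective (LocalizedModule.map p.asIdeal.primeCompl φ) := by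
    simpa [LocalizedModule.coe_map_eq f g] using hφ
  refine ⟨(Module.support R (M ⧸ LinearMap.range φ))ᶜ, fun q hq => ?_,
    isOpen_compl_iff.mpr (by rw [Module.support_eq_zeroLocus]; exact isClosed_zeroLocus _), ?_⟩
  · haveI : Subsingleton (LocalizedModule q.asIdeal.primeCompl (M ⧸ LinearMap.range φ)) :=
      Module.notMem_support_iff.mp hq
    have hsurj : Function.Surjective (LocalizedModule.map q.asIdeal.primeCompl φ) := fun y =>
      ((LocalizedModule.map_exact q.asIdeal.primeCompl φ (LinearMap.range φ).mkQ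
        φ.exact_map_mkQ_range) y).mp (Subsingleton.elim _ _)
    show Module.rankAtStalk M q ≤ n
    refine le_trans ?_ (show k ≤ n from hp)
    calc Module.rankAtStalk M q ≤ Module.rankAtStalk (Fin k →₀ R) q := by
          haveI : Module.Finite (Localization.AtPrime q.asIdeal)
              (LocalizedModule q.asIdeal.primeCompl (Fin k →₀ R)) :=
            Module.Finite.of_isLocalizedModule q.asIdeal.primeCompl
              (LocalizedModule.mkLinearMap q.asIdeal.primeCompl (Fin k →₀ R))
          exact LinearMap.finrank_le_finrank_of_surjective hsurj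
      _ = k := by rw [Module.rankAtStalk_eq_finrank_of_free]; simp
  · show p ∉ Module.support R (M ⧸ LinearMap.range φ)
    rw [Module.notMem_support_iff]
    refine subsingleton_iff.mpr fun a b => ?_
    suffices H : ∀ z : LocalizedModule p.asIdeal.primeCompl (M ⧸ LinearMap.range φ), z = 0 by
      rw [H a, H b]
    intro z
    obtain ⟨w, rfl⟩ := LocalizedModule.map_surjective p.asIdeal.primeCompl _
      (Submodule.mkQ_surjective (LinearMap.range φ)) z
    obtain ⟨v, rfl⟩ := hφ' w
    exact (LocalizedModule.map_exact p.asIdeal.primeCompl φ (LinearMap.range φ).mkQ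
      φ.exact_map_mkQ_range).apply_apply_eq_zero v

theorem projective_of_isLocallyConstant_rank (M : Type u) [AddCommGroup M] [Module R M]
    [Module.Finite R M] [Module.Flat R M] (h : IsLocallyConstant (Module.rankAtStalk (R := R) M)) :
    Module.Projective R M := by
  have hloc : ∀ p : PrimeSpectrum R, ∃ a, a ∉ p.asIdeal ∧
      Module.FinitePresentation (Localization.Away a) (LocalizedModule.Away a M) := by
    intro p
    obtain ⟨U, hU, hpU, hconst⟩ := h.exists_open p
    obtain ⟨_, ⟨b, rfl⟩, hpb, hbU⟩ := isTopologicalBasis_basic_opens.exists_subset_of_mem_open hpU hU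
    let A := Localization.Away b
    let Mb := LocalizedModule.Away b M
    haveI : Module.Flat A Mb :=
      Module.Flat.of_isLocalizedModule A (Submonoid.powers b) (LocalizedModule.mkLinearMap _ M)
    haveI : Module.Finite A Mb :=
      Module.Finite.of_isLocalizedModule (Submonoid.powers b) (LocalizedModule.mkLinearMap _ M)
    have hrk : ∀ P : PrimeSpectrum A, Module.rankAtStalk Mb P = Module.rankAtStalk M p := by
      intro P
      rw [Module.rankAtStalk_isBaseChange (LocalizedModule.isBaseChange (Submonoid.powers b) M)]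
      refine hconst _ (hbU ?_)
      have : PrimeSpectrum.comap (algebraMap R A) P ∈ Set.range (PrimeSpectrum.comap (algebraMap R A)) :=
        Set.mem_range_self P
      rwa [PrimeSpectrum.localization_away_comap_range A b] at this
    refine ⟨b, hpb, ?_⟩
    refine Module.FinitePresentation.of_localizationSpan
      (s := {a : A | Module.Free (Localization.Away a) (LocalizedModule.Away a Mb)}) ?_ ?_
    · by_contra hne
      obtain ⟨m, hm, hle⟩ := Ideal.exists_le_maximal _ hne
      haveI := hm.isPrime
      obtain ⟨a, ha, hfree⟩ := Module.Free.away_of_finite_of_flat_of_rankAtStalk_constant Mb m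
        (fun n _ => by rw [hrk, hrk])
      exact ha (hle (Ideal.subset_span hfree))
    · rintro ⟨a, ha⟩
      haveI : Module.Free (Localization.Away a) (LocalizedModule.Away a Mb) := ha
      haveI : Module.Finite (Localization.Away a) (LocalizedModule.Away a Mb) :=
        Module.Finite.of_isLocalizedModule (Submonoid.powers a) (LocalizedModule.mkLinearMap _ Mb)
      exact Module.finitePresentation_of_projective _ _
  choose a ha hfp using hloc
  haveI : Module.FinitePresentation R M := by
    refine Module.FinitePresentation.of_localizationSpan (s := Set.range a) ?_ ?_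
    · by_contra hne
      obtain ⟨m, hm, hle⟩ := Ideal.exists_le_maximal _ hne
      exact ha ⟨m, hm.isPrime⟩ (hle (Ideal.subset_span (Set.mem_range_self _)))
    · rintro ⟨_, q, rfl⟩
      exact hfp q
  exact Module.Flat.projective_of_finitePresentation

theorem projective_iff_closed_generalization_open :
    (∀ Z : Set (PrimeSpectrum R), IsClosed Z → StableUnderGeneralization Z → IsOpen Z) ↔
      ∀ (M : Type u) [AddCommGroup M] [Module R M], Module.Finite R M → Module.Flat R M →
        Module.Projective R M := by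
  constructor
  · intro h M _ _ _ _
    refine projective_of_isLocallyConstant_rank M ?_
    rw [IsLocallyConstant.iff_isOpen_fiber]
    intro n
    have hge : IsOpen {p : PrimeSpectrum R | n ≤ Module.rankAtStalk M p} := by
      refine h _ ?_ fun p q hqp hp => ?_
      · rcases n with - | m
        · simp
        · rw [← isOpen_compl_iff]
          convert isOpen_rankAtStalk_le (R := R) M m using 1
          ext q
          simp [Nat.lt_succ_iff]
      · have h1 := Module.rankAtStalk_eq_of_le_of_finite_of_flat M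
          ((PrimeSpectrum.le_iff_specializes q p).mpr hqp)
        simpa [h1] using hp
    convert hge.inter (isOpen_rankAtStalk_le M n) using 1
    ext q
    simp only [Set.mem_preimage, Set.mem_singleton_iff, Set.mem_inter_iff, Set.mem_setOf_eq]
    omega
  · intro h Z hc hg
    obtain ⟨I, hI, rfl⟩ := exists_pure_zeroLocus_eq Z hc hg
    have h3 := ((pure_fg_tfae I).out 3 2).mp (h (R ⧸ I) (Module.Finite.quotient R I) hI)
    exact h3.2

end Groth.Agent.PureIdeal
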